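import Groth.Agent.Lib.PullTensFlat25.Elements
import Groth.Agent.Lib.FlatRel25.Points

/-!
# Modules flat over the target make `G ↦ f^*G ⊗ M` exact
-/

set_option autoImplicit false
set_option linter.all false
set_option maxHeartbeats 1000000
set_option backward.isDefEq.respectTransparency false
set_option backward.isDefEq.respectTransparency.types false
universe u

open CategoryTheory CategoryTheory.Limits Opposite MonoidalCategory GrothLib.SheafCoh

noncomputable section

namespace GrothLib.PullTensFlat25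

open PullLoc25 FlatRel25

variable {C D : Type u} [SmallCategory C] [SmallCategory D] {J : GrothendieckTopology C}
  {K : GrothendieckTopology D} {O_C : Sheaf J CommRingCat.{u}} {O_D : Sheaf K CommRingCat.{u}}
  (f : ModSite.RMor O_C O_D) (M : ModSite.Mod O_C)

/-- `M` over the pulled back sheaf of rings. -/
abbrev MI : ModSite.Mod f.invRing :=
  (SheafOfModules.restrictScalars ((sheafCompose J (forget₂ CommRingCat.{u} RingCat.{u})).map f.invSharp)).obj M

theorem smul_MI {U : C} (c : f.invRing.obj.obj (op U)) (x : ModSite.sect (MI f M) U) :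
    c • x = (show ModSite.sect (MI f M) U from
      (f.invSharp.hom.app (op U)).hom c • (show ModSite.sect M U from x)) := rfl

/-- The two module structures on a stalk agree. -/
theorem smul_stalk (p : GrothendieckTopology.Point.{u} J) (r : ModSite.stalkRing p f.invRing)
    (m : ModSite.stalkAb p (MI f M)) :
    r • m = (show ModSite.stalkAb p (MI f M) from
      ((p.sheafFiber (A := CommRingCat.{u})).map f.invSharp).hom r • (show ModSite.stalkAb p M from m)) := by
  obtain ⟨X, x, r₀, rfl⟩ := p.toPresheafFiber_jointly_surjective (P := f.invRing.obj) r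
  obtain ⟨Y, g, y, s, a, hy, hs, ha⟩ := exists_common_nhd (F := MI f M) p x (fun _ : Unit => m)
    (fun _ : Unit => (p.toPresheafFiber X x f.invRing.obj).hom r₀)
  have e : ((p.sheafFiber (A := CommRingCat.{u})).map f.invSharp).hom (ModSite.germRing p Y y (a ())) =
      ModSite.germRing p Y y ((f.invSharp.hom.app (op Y)).hom (a ())) :=
    p.toPresheafFiber_naturality_apply f.invSharp.hom Y y (a ())
  refine (congrArg₂ (fun (r : ModSite.stalkRing p f.invRing) (m : ModSite.stalkAb p (MI f M)) => r • m)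
    (ha ()).symm (hs ()).symm).trans ((ModSite.germ_smul p (MI f M) Y y (a ()) (s ())).symm.trans ?_)
  refine (ModSite.germ_smul p M Y y ((f.invSharp.hom.app (op Y)).hom (a ())) (show ModSite.sect M Y from s ())).trans ?_
  exact congrArg₂ (fun (r : ModSite.stalkRing p O_C) (m : ModSite.stalkAb p M) => r • m)
    (e.symm.trans (congrArg _ (ha ()))) (hs ())

/-- Flat stalks over the pulled back stalks. -/
theorem flat_stalk (p : GrothendieckTopology.Point.{u} J)
    (h : @Module.Flat (ModSite.stalkRing p f.invRing) (ModSite.stalkAb p M) _ _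
      (Module.compHom (ModSite.stalkAb p M) ((p.sheafFiber (A := CommRingCat.{u})).map f.invSharp).hom)) :
    Module.Flat (ModSite.stalkRing p f.invRing) (ModSite.stalkMod p (MI f M)) := by
  letI hm : Module (ModSite.stalkRing p f.invRing) (ModSite.stalkAb p M) :=
    Module.compHom (ModSite.stalkAb p M) ((p.sheafFiber (A := CommRingCat.{u})).map f.invSharp).hom
  let e : ModSite.stalkMod p (MI f M) ≃ₗ[ModSite.stalkRing p f.invRing] ModSite.stalkAb p M :=
    { toFun := fun m => m
      invFun := fun m => m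
      left_inv := fun _ => rfl
      right_inv := fun _ => rfl
      map_add' := fun _ _ => rfl
      map_smul' := fun r m => smul_stalk f M p r m }
  have : Module.Flat (ModSite.stalkRing p f.invRing) (ModSite.stalkAb p M) := h
  exact Module.Flat.of_linearEquiv e

/-- Relations between sections of `M` with pulled back coefficients are locally trivial. -/
def LocFlatMod : Prop :=
  ∀ {V : C} {W : D} (q : V ⟶ f.fn.obj W) {α β : Type u} [Fintype α] [Fintype β]
    (d : α → ModSite.sect M V) (r : β → α → O_D.obj.obj (op W)),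
    (∀ b, ∑ i, coef f q (r b i) • d i = 0) →
    ∃ S ∈ J V, ∀ ⦃V' : C⦄ (g : V' ⟶ V), S g → ∃ (W' : D) (c : W' ⟶ W) (q' : V' ⟶ f.fn.obj W'),
      q' ≫ f.fn.map c = g ≫ q ∧ ∃ (l : ℕ) (u : Fin l → ModSite.sect M V') (a : α → Fin l → O_D.obj.obj (op W')),
        (∀ i, res M g (d i) = ∑ j, coef f q' (a i j) • u j) ∧
        ∀ b j, ∑ i, a i j * FlatRel25.resR c (r b i) = 0

theorem locFlatMod_of_locRel (hf : LocRel (MI f M)) : LocFlatMod f M := by
  intro V W q α β _ _ d r hr
  classical
  let m := Fintype.card β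
  let eβ := Fintype.equivFin β
  have h0 := hf.multi (U := V) (fun b i => invEl f q (r b i))
    (fun i => (show ModSite.sect (MI f M) V from d i)) (fun b => by
      refine Eq.trans (Finset.sum_congr rfl fun i _ => ?_) (hr b)
      refine (smul_MI f M _ _).trans ?_
      change (f.invSharp.hom.app (op V)).hom (invEl f q (r b i)) • d i = coef f q (r b i) • d i
      rw [invSharp_invEl]
      rfl)
  refine ⟨_, J.transitive h0 (Sieve.mk
    (fun V' g => ∃ (W' : D) (c : W' ⟶ W) (q' : V' ⟶ f.fn.obj W'), q' ≫ f.fn.map c = g ≫ q ∧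
      ∃ (l : ℕ) (u : Fin l → ModSite.sect M V') (a : α → Fin l → O_D.obj.obj (op W')),
        (∀ i, res M g (d i) = ∑ j, coef f q' (a i j) • u j) ∧
        ∀ b j, ∑ i, a i j * FlatRel25.resR c (r b i) = 0)
    (fun {Y Z g} ⟨W', c, q', hq, l, u, a, h₁, h₂⟩ k => ⟨W', c, k ≫ q', by rw [Category.assoc, hq, Category.assoc],
      l, fun j => res M k (u j), a, fun i => by
        rw [← res_res, h₁ i, map_sum]
        exact Finset.sum_congr rfl fun j _ => (res_smul M k _ _).trans
          (congrArg (fun z : O_C.obj.obj (op Z) => z • res M k (u j)) (coef_resR f q' k (a i j))), h₂⟩)) ?_,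
    fun V' g hg => hg⟩
  intro V₁ g₁ hg₁
  obtain ⟨l, t, a, ht, ha⟩ := hg₁
  let eα := Fintype.equivFin (α × Fin l)
  obtain ⟨S₁, hS₁, h₁⟩ := exists_invEl_fin f _ (g₁ ≫ q) (fun k => a (eα.symm k).1 (eα.symm k).2)
  refine J.transitive hS₁ _ fun V₂ g₂ hg₂ => ?_
  obtain ⟨W₂, c₂, q₂, hq₂, hz⟩ := h₁ g₂ hg₂
  choose a' ha' using hz
  let A : α → Fin l → O_D.obj.obj (op W₂) := fun i j => a' (eα (i, j))
  have hA : ∀ i j, (f.invRing.obj.map g₂.op).hom (a i j) = invEl f q₂ (A i j) := fun i j => by
    have := ha' (eα (i, j))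
    rwa [Equiv.symm_apply_apply] at this
  let eq' := Fintype.equivFin (β × Fin l)
  obtain ⟨S₂, hS₂, h₂⟩ := invEl_eq_locally_fin f _ q₂
    (fun k => ∑ i, A i (eq'.symm k).2 * FlatRel25.resR c₂ (r (eq'.symm k).1 i)) (fun _ => 0) (fun k => by
      rw [map_zero, map_sum]
      have h := congrArg (f.invRing.obj.map g₂.op).hom (ha (eq'.symm k).1 (eq'.symm k).2)
      rw [map_zero, map_sum] at h
      refine Eq.trans (Finset.sum_congr rfl fun i _ => ?_) h
      simp only [map_mul, hA, FlatRel25.resR]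
      refine congrArg (_ * ·) ?_
      rw [invEl_res, invEl_res, invEl_comp, hq₂])
  refine J.superset_covering (fun V₃ g₃ hg₃ => ?_) hS₂
  obtain ⟨W₃, c₃, q₃, he, hq₃⟩ := h₂ g₃ hg₃
  refine ⟨W₃, c₃ ≫ c₂, q₃, by rw [f.fn.map_comp, reassoc_of% hq₃, hq₂, Category.assoc, Category.assoc], l,
    fun j => res M (g₃ ≫ g₂) (show ModSite.sect M V₁ from t j),
    fun i j => FlatRel25.resR c₃ (A i j), fun i => ?_, fun b j => ?_⟩
  · have h := congrArg (fun x : ModSite.sect (MI f M) V₁ => res M (g₃ ≫ g₂) (show ModSite.sect M V₁ from x)) (ht i)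
    refine Eq.trans ?_ (h.trans ?_)
    · refine Eq.trans ?_ (res_res M g₁ (g₃ ≫ g₂) (d i)).symm
      rw [Category.assoc]
    · refine (map_sum (res M (g₃ ≫ g₂)) (fun j => (show ModSite.sect M V₁ from a i j • t j)) Finset.univ).trans ?_
      refine Finset.sum_congr rfl fun j _ => ?_
      refine (res_smul M (g₃ ≫ g₂) ((f.invSharp.hom.app (op V₁)).hom (a i j)) _).trans ?_
      refine congrArg (fun z : O_C.obj.obj (op V₃) => z • res M (g₃ ≫ g₂) (show ModSite.sect M V₁ from t j)) ?_
      refine (ConcreteCategory.congr_hom (f.invSharp.hom.naturality (g₃ ≫ g₂).op) (a i j)).symm.trans ?_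
      change (f.invSharp.hom.app (op V₃)).hom ((f.invRing.obj.map (g₃ ≫ g₂).op).hom (a i j)) = _
      rw [op_comp, f.invRing.obj.map_comp, CommRingCat.hom_comp, RingHom.comp_apply, hA, invEl_res, invSharp_invEl]
      exact ((coef_map f c₃ q₃ (A i j)).trans (congrArg (fun k => coef f k (A i j)) hq₃)).symm
  · have h := he (eq' (b, j))
    simp only [Equiv.symm_apply_apply, map_zero, map_sum, map_mul] at h
    refine Eq.trans (Finset.sum_congr rfl fun i _ => ?_) h
    refine congrArg (_ * ·) ?_
    exact (FlatRel25.resR_resR c₂ c₃ _).symm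

/-- `G ↦ f^*G ⊗ M`. -/
abbrev TF : ModSite.Mod O_D ⥤ ModSite.Mod O_C := f.pull ⋙ (ModSite.tensorBi O_C).flip.obj M

theorem map_tm {F G : ModSite.Mod O_D} (α : F ⟶ G) {V : C} (a : ModSite.sect (f.pull.obj F) V)
    (m : ModSite.sect M V) :
    ((TF f M).map α).val.app (op V) (tm (f.pull.obj F) M a m) =
      tm (f.pull.obj G) M ((f.pull.map α).val.app (op V) a) m :=
  (congrArg (fun k : (forgetP O_C).obj (f.pull.obj F) ⊗ (forgetP O_C).obj M ⟶ _ =>
    k.app (op V) (ps (f.pull.obj F) a ⊗ₜ[O_C.obj.obj (op V)] ps M m))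
    ((shfAdj O_C).unit.naturality ((forgetP O_C).map (f.pull.map α) ▷ (forgetP O_C).obj M))).symm

/-- Generators mapped forward. -/
def gmMap {F G : ModSite.Mod O_D} (α : F ⟶ G) (V : C) : GM f M F V →+ GM f M G V :=
  Finsupp.mapDomain.addMonoidHom (mapGen f α)

theorem gmMap_single {F G : ModSite.Mod O_D} (α : F ⟶ G) {V : C} (x : Σ i : Idx F, V ⟶ f.fn.obj i.1)
    (m : ModSite.sect M V) : gmMap f M α V (Finsupp.single x m) = Finsupp.single (mapGen f α x) m :=
  Finsupp.mapDomain_single

theorem lamM_gmMap {F G : ModSite.Mod O_D} (α : F ⟶ G) {V : C} (y : GM f M F V) :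
    lamM f M G V (gmMap f M α V y) = ((TF f M).map α).val.app (op V) (lamM f M F V y) := by
  let A : GM f M F V →+ ModSite.sect (TT f M G) V :=
    AddMonoidHom.comp (((TF f M).map α).val.app (op V)).hom.toAddMonoidHom (lamM f M F V)
  suffices h : (lamM f M G V).comp (gmMap f M α V) = A from DFunLike.congr_fun h y
  refine Finsupp.addHom_ext fun x m => ?_
  change lamM f M G V (gmMap f M α V (Finsupp.single x m)) =
    ((TF f M).map α).val.app (op V) (lamM f M F V (Finsupp.single x m))
  rw [gmMap_single, lamM_single, lamM_single]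
  refine Eq.trans ?_ (map_tm f M α _ m).symm
  refine congrArg (fun z => tm (f.pull.obj G) M z m) ?_
  refine Eq.trans ?_ (PresheafOfModules.naturality_apply (f.pull.map α).val x.2.op _).symm
  exact congrArg (res (f.pull.obj G) x.2) (map_pullSec f α x.1.2).symm

theorem resM_gmMap {F G : ModSite.Mod O_D} (α : F ⟶ G) {V V' : C} (g : V' ⟶ V) (y : GM f M F V) :
    resM f M G g (gmMap f M α V y) = gmMap f M α V' (resM f M F g y) := by
  suffices h : (resM f M G g).comp (gmMap f M α V) = (gmMap f M α V').comp (resM f M F g) from DFunLike.congr_fun h y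
  refine Finsupp.addHom_ext fun x m => ?_
  change resM f M G g (gmMap f M α V (Finsupp.single x m)) = gmMap f M α V' (resM f M F g (Finsupp.single x m))
  rw [gmMap_single, resM_single, resM_single, gmMap_single]
  rfl

theorem map_app_eq_zero (hf : LocFlatMod f M) {F G : ModSite.Mod O_D} (α : F ⟶ G) [Mono α]
    {V₀ : C} (z : ModSite.sect (TT f M F) V₀) (hz : ((TF f M).map α).val.app (op V₀) z = 0) : z = 0 := by
  classical
  obtain ⟨S₀, hS₀, h₀⟩ := exists_lamM f M F z
  refine FlatRel25_eq_zero_of_locally _ hS₀ fun V₁ g₁ hg₁ => ?_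
  obtain ⟨y₁, hy₁⟩ := h₀ g₁ hg₁
  rw [← hy₁]
  have hy₁' : lamM f M G V₁ (gmMap f M α V₁ y₁) = 0 := by
    rw [lamM_gmMap, hy₁]
    exact (PresheafOfModules.naturality_apply ((TF f M).map α).val g₁.op z).trans
      ((congrArg (res (TT f M G) g₁) hz).trans (map_zero _))
  obtain ⟨S₁, hS₁, h₁⟩ := exists_relM f M G _ hy₁'
  refine FlatRel25_eq_zero_of_locally _ hS₁ fun V g hg => ?_
  obtain ⟨ds, hd⟩ := h₁ g hg
  rw [← lamM_resM]
  rw [resM_gmMap] at hd
  generalize resM f M F g y₁ = ys at hd ⊢
  let tgt : (Σ R : {R // R ∈ ds.support}, {a // a ∈ R.1.1.r.support}) → (Σ i : Idx G, V ⟶ f.fn.obj i.1) :=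
    fun k => ⟨k.2.1.1, k.1.1.2 ≫ f.fn.map k.2.1.2⟩
  let A : Finset (Σ i : Idx G, V ⟶ f.fn.obj i.1) :=
    ys.support.image (mapGen f α) ∪ Finset.univ.image tgt
  have htgt : ∀ k, tgt k ∈ A := fun k =>
    Finset.mem_union_right _ (Finset.mem_image.2 ⟨k, Finset.mem_univ k, rfl⟩)
  have hyA : ∀ e ∈ ys.support, mapGen f α e ∈ A := fun e he =>
    Finset.mem_union_left _ (Finset.mem_image.2 ⟨e, he, rfl⟩)
  let ι := {e // e ∈ A} ⊕ {R // R ∈ ds.support}
  let U : ι → D := fun i => i.elim (fun e => e.1.1.1) (fun R => R.1.1.W)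
  let p : ∀ i, V ⟶ f.fn.obj (U i) := fun i => match i with
    | .inl e => e.1.2
    | .inr R => R.1.2
  obtain ⟨S₂, hS₂, h₂⟩ := exists_merge (J := J) K f.fn U p
    (κ' := Σ R : {R // R ∈ ds.support}, {a // a ∈ R.1.1.r.support})
    (fun k => .inr k.1) (fun k => .inl ⟨tgt k, htgt k⟩) (fun k => k.2.1.2) (fun k => rfl)
  refine FlatRel25_eq_zero_of_locally _ hS₂ fun V₂ g₂ hg₂ => ?_
  obtain ⟨W, q, l, hl, hc⟩ := h₂ g₂ hg₂
  let μ : {e // e ∈ A} → ModSite.sect G W := fun e => FlatRel25.res G (l (.inl e)) e.1.1.2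
  let ρ : {R // R ∈ ds.support} → {e // e ∈ A} → O_D.obj.obj (op W) := fun R e =>
    ∑ a : {a // a ∈ R.1.1.r.support}, if tgt ⟨R, a⟩ = e.1 then FlatRel25.resR (l (.inr R)) (R.1.1.r a.1) else 0
  have hρ : ∀ R, ∑ e, ρ R e • μ e = 0 := fun R => by
    simp only [ρ, Finset.sum_smul, ite_smul, zero_smul]
    rw [Finset.sum_comm]
    have h := congrArg (FlatRel25.res G (l (.inr R))) R.1.1.rel
    simp only [Finsupp.sum] at h
    refine Eq.trans (Finset.sum_congr rfl fun a _ => ?_) ((Finset.sum_coe_sort R.1.1.r.support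
      (fun a => FlatRel25.res G (l (.inr R)) (R.1.1.r a • FlatRel25.res G a.2 a.1.2))).trans
      ((map_sum (FlatRel25.res G (l (.inr R))) _ _).symm.trans (h.trans (map_zero _))))
    rw [Finset.sum_eq_single (⟨tgt ⟨R, a⟩, htgt _⟩ : {e // e ∈ A})
      (fun e _ he => if_neg fun h' => he (Subtype.ext h'.symm)) (fun h' => absurd (Finset.mem_univ _) h')]
    rw [if_pos rfl]
    refine Eq.trans ?_ (FlatRel25.res_smul G _ _ _).symm
    refine congrArg (fun w : ModSite.sect G W => FlatRel25.resR (l (.inr R)) (R.1.1.r a.1) • w) ?_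
    refine Eq.trans ?_ (FlatRel25.res_res G a.1.2 (l (.inr R)) a.1.1.2).symm
    exact congrArg (fun k => FlatRel25.res G k a.1.1.2) (hc ⟨R, a⟩).symm
  -- classification of the generators
  let Im : {e // e ∈ A} → Prop := fun e => ∃ e₁, mapGen f α e₁ = e.1
  have hIm : ∀ e, ∃ n : ModSite.sect F W, (Im e → α.val.app (op W) n = μ e) ∧
      (∀ e₁ (h : mapGen f α e₁ = e.1), ∀ le : W ⟶ e₁.1.1,
        HEq le (l (.inl e)) → n = FlatRel25.res F le e₁.1.2) := by
    intro e
    by_cases he : Im e
    · obtain ⟨e₁, he₁⟩ := he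
      obtain ⟨e, heA⟩ := e
      subst he₁
      let le : W ⟶ e₁.1.1 := l (.inl ⟨mapGen f α e₁, heA⟩)
      refine ⟨FlatRel25.res F le e₁.1.2, fun _ => PresheafOfModules.naturality_apply α.val le.op e₁.1.2,
        fun e₂ h₂ le' hle' => ?_⟩
      obtain rfl := mapGen_injective f α h₂
      rw [eq_of_heq hle']
    · exact ⟨0, fun h => absurd h he, fun e₁ h₁ => absurd ⟨e₁, h₁⟩ he⟩
  choose nn hnn hnn' using hIm
  let yh : GM f M G V := gmMap f M α V ys
  let Φ : {e // e ∈ A} → ModSite.sect M V₂ := fun e => res M g₂ (yh e.1)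
  have hcoef : ∀ e, Φ e = ∑ R : {R // R ∈ ds.support}, coef f q (ρ R e) • res M g₂ (ds R.1) := by
    intro e
    refine (congrArg (res M g₂) ((DFunLike.congr_fun hd.symm e.1).trans (relSum_apply f M G ds e.1))).trans ?_
    rw [map_sum, ← Finset.sum_coe_sort]
    refine Finset.sum_congr rfl fun R _ => ?_
    refine (res_smul M g₂ _ _).trans ?_
    refine congrArg (fun z : O_C.obj.obj (op V₂) => z • res M g₂ (ds R.1)) ?_
    rw [show relVec f G R.1 = R.1.1.r.sum fun b r' => coef f R.1.2 r' •
      (show (Σ i : Idx G, V ⟶ f.fn.obj i.1) →₀ O_C.obj.obj (op V) from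
        Finsupp.single ⟨b.1, R.1.2 ≫ f.fn.map b.2⟩ 1) from rfl]
    rw [Finsupp.sum, ← Finset.sum_coe_sort]
    simp only [Finsupp.smul_apply, Finsupp.finset_sum_apply, smul_eq_mul, FlatRel25.resR, map_mul, map_sum, ρ]
    refine Finset.sum_congr rfl fun b _ => ?_
    change FlatRel25.resR g₂ (coef f R.1.2 (R.1.1.r b.1)) *
      FlatRel25.resR g₂ ((Finsupp.single (tgt ⟨R, b⟩) (1 : O_C.obj.obj (op V))) e.1) = _
    rw [coef_resR, Finsupp.single_apply]
    by_cases h : tgt ⟨R, b⟩ = e.1
    · rw [if_pos h, if_pos h]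
      simp only [FlatRel25.resR, map_one, mul_one]
      refine Eq.trans ?_ (coef_map f (l (.inr R)) q _).symm
      exact congrArg (fun k => coef f k (R.1.1.r b.1)) (hl (.inr R)).symm
    · rw [if_neg h, if_neg h]
      simp [FlatRel25.resR]
  obtain ⟨T, hT, hT'⟩ := hf q (α := {R // R ∈ ds.support}) (β := {e // e ∈ A})
    (fun R => res M g₂ (ds R.1)) (fun e R => if Im e then 0 else ρ R e) (fun e => by
      by_cases he : Im e
      · simp only [if_pos he, map_zero, zero_smul, Finset.sum_const_zero]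
      · simp only [if_neg he]
        refine (hcoef e).symm.trans ?_
        change res M g₂ (yh e.1) = 0
        rw [show yh e.1 = 0 from Finsupp.mapDomain_notin_range _ _ (fun ⟨e₁, h₁⟩ => he ⟨e₁, h₁⟩)]
        exact map_zero _)
  refine FlatRel25_eq_zero_of_locally _ hT fun V₃ g₃ hg₃ => ?_
  obtain ⟨W', c, q', hq', k, u, a, ha₁, ha₂⟩ := hT' g₃ hg₃
  let b : {e // e ∈ A} → Fin k → O_D.obj.obj (op W') := fun e j => ∑ R, a R j * FlatRel25.resR c (ρ R e)
  have hb : ∀ j, ∑ e, b e j • FlatRel25.res G c (μ e) = 0 := by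
    intro j
    simp only [b, Finset.sum_smul]
    rw [Finset.sum_comm]
    refine Finset.sum_eq_zero fun R _ => ?_
    simp only [mul_smul, ← Finset.smul_sum]
    refine Eq.trans (congrArg (fun w : ModSite.sect G W' => a R j • w) ?_) (smul_zero _)
    refine Eq.trans (Finset.sum_congr rfl fun e _ => (FlatRel25.res_smul G c _ _).symm) ?_
    exact (map_sum (FlatRel25.res G c) _ _).symm.trans ((congrArg _ (hρ R)).trans (map_zero _))
  have hz' : ∀ j, ∑ e, b e j • FlatRel25.res F c (nn e) = 0 := by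
    intro j
    refine app_injective α W' (((map_sum (α.val.app (op W')).hom _ _).trans ?_).trans
      ((hb j).trans (map_zero _).symm))
    refine Finset.sum_congr rfl fun e _ => ?_
    refine ((α.val.app (op W')).hom.map_smul _ _).trans ?_
    by_cases he : Im e
    · refine congrArg (fun w : ModSite.sect G W' => b e j • w) ?_
      exact (PresheafOfModules.naturality_apply α.val c.op (nn e)).trans (congrArg (G.val.map c.op) (hnn e he))
    · have h0 : b e j = 0 := by
        simpa only [if_neg he] using ha₂ e j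
      rw [h0]
      exact (zero_smul (O_D.obj.obj (op W')) _).trans (zero_smul (O_D.obj.obj (op W')) _).symm
  -- conclusion
  let P := f.pull.obj F
  let N : {e // e ∈ A} → ModSite.sect P V₂ := fun e => res P q (pullSec f F (nn e))
  have h₃ : res (TT f M F) g₂ (lamM f M F V ys) = ∑ e, tm P M (N e) (Φ e) := by
    let L : GM f M G V →+ ModSite.sect (TT f M F) V₂ :=
      AddMonoidHom.mk' (fun x => ∑ e : {e // e ∈ A}, tm P M (N e) (res M g₂ (x e.1))) (fun x x' => by
        simp only [Finsupp.add_apply, map_add, tm_add_right, Finset.sum_add_distrib])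
    change _ = L yh
    rw [← Finsupp.sum_single ys]
    simp only [Finsupp.sum]
    rw [map_sum, map_sum, show L yh = L (gmMap f M α V (∑ e ∈ ys.support, Finsupp.single e (ys e))) from
      congrArg (fun z => L (gmMap f M α V z)) (Finsupp.sum_single ys).symm, map_sum, map_sum]
    refine Finset.sum_congr rfl fun e he => ?_
    rw [lamM_single, gmMap_single]
    change _ = ∑ e' : {e' // e' ∈ A}, _
    rw [Finset.sum_eq_single (⟨mapGen f α e, hyA e he⟩ : {e' // e' ∈ A})
      (fun e' _ he' => by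
        rw [Finsupp.single_eq_of_ne fun h => he' (Subtype.ext h), map_zero]
        exact (AddMonoidHom.mk' (fun m => tm P M (N e') m) fun m m' => tm_add_right _ _ _).map_zero)
      (fun h => absurd (Finset.mem_univ _) h)]
    simp only [Finsupp.single_eq_same]
    refine (res_tm P M g₂ _ _).trans ?_
    refine congrArg (fun w => tm P M w (res M g₂ (ys e))) ?_
    let le : W ⟶ e.1.1 := l (.inl ⟨mapGen f α e, hyA e he⟩)
    have e1 : g₂ ≫ e.2 = q ≫ f.fn.map le := (hl (.inl ⟨mapGen f α e, hyA e he⟩)).symm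
    rw [FlatRel25.res_res, e1, ← FlatRel25.res_res, ← pullSec_natural]
    exact congrArg (fun w => FlatRel25.res P q (pullSec f F w))
      (hnn' ⟨mapGen f α e, hyA e he⟩ e rfl le HEq.rfl).symm
  rw [show res (TT f M F) g₂ (lamM f M F V ys) = _ from h₃, map_sum]
  let Np : {e // e ∈ A} → ModSite.sect P V₃ := fun e => res P q' (pullSec f F (res F c (nn e)))
  have h₄ : ∀ e, res (TT f M F) g₃ (tm P M (N e) (Φ e)) = ∑ j, tm P M (coef f q' (b e j) • Np e) (u j) := by
    intro e
    have hN : res P g₃ (N e) = Np e := by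
      simp only [N, Np, P]
      rw [FlatRel25.res_res, pullSec_natural, FlatRel25.res_res, hq']
    have hΦ : res M g₃ (Φ e) = ∑ j, coef f q' (b e j) • u j := by
      rw [hcoef e, map_sum]
      simp only [b, map_sum, Finset.sum_smul, map_mul]
      rw [Finset.sum_comm]
      refine Finset.sum_congr rfl fun R _ => ?_
      refine (res_smul M g₃ _ _).trans ?_
      rw [ha₁ R, Finset.smul_sum, coef_resR, ← hq', ← coef_map]
      refine Finset.sum_congr rfl fun j _ => ?_
      rw [smul_smul, mul_comm]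
    refine (res_tm P M g₃ _ _).trans ((congrArg₂ (tm P M) hN hΦ).trans ?_)
    refine (map_sum (AddMonoidHom.mk' (fun m => tm P M (Np e) m) fun m m' => tm_add_right _ _ _) _ _).trans ?_
    exact Finset.sum_congr rfl fun j _ => (tm_smul_right _ _ _).trans (tm_smul_left _ _ _).symm
  rw [Finset.sum_congr rfl fun e _ => h₄ e, Finset.sum_comm]
  refine Finset.sum_eq_zero fun j _ => ?_
  refine (map_sum (AddMonoidHom.mk' (fun w => tm P M w (u j)) fun w w' => tm_add_left _ _ _)
    (fun e => coef f q' (b e j) • Np e) Finset.univ).symm.trans ?_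
  refine (congrArg _ ?_).trans (map_zero _)
  refine Eq.trans (Finset.sum_congr rfl fun e _ => (res_pullSec_smul f F q' _ _).symm) ?_
  rw [← map_sum, ← pullSec_sum, hz' j]
  exact (congrArg (FlatRel25.res P q')
    (map_zero ((f.adj.unit.app F).val.app (op W')).hom)).trans (map_zero _)

/-- `G ↦ f^*G ⊗ M` is exact. -/
theorem exact_TF (hf : LocRel (MI f M)) :
    PreservesFiniteLimits (TF f M) ∧ PreservesFiniteColimits (TF f M) := by
  have hl : LocFlatMod f M := @fun V W q α β _ _ d r hr => locFlatMod_of_locRel f M hf q d r hr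
  have := f.adj.isLeftAdjoint
  have := ModFlat.isLeftAdjoint_T M
  have : (TF f M).IsLeftAdjoint := Functor.isLeftAdjoint_comp f.pull (ModFlat.T M)
  have : PreservesColimitsOfSize.{0, 0} (TF f M) := (Adjunction.ofIsLeftAdjoint (TF f M)).leftAdjoint_preservesColimits
  have hc : PreservesFiniteColimits (TF f M) := PreservesColimits.preservesFiniteColimits _
  have : PreservesBinaryBiproducts (TF f M) := preservesBinaryBiproducts_of_preservesBinaryCoproducts _
  have : (TF f M).Additive := Functor.additive_of_preservesBinaryBiproducts _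
  refine ⟨?_, hc⟩
  rw [Functor.preservesFiniteLimits_iff_forall_exact_map_and_mono]
  intro S hS
  have := hS.mono_f
  have := hS.epi_g
  refine ⟨hS.exact.map_of_epi_of_preservesCokernel (TF f M) inferInstance inferInstance, ?_⟩
  apply (SheafOfModules.toSheaf (ModSite.ringSh O_C) ⋙ sheafToPresheaf J AddCommGrpCat.{u}).mono_of_mono_map
  refine @NatTrans.mono_of_mono_app _ _ _ _ _ _ _ fun V => ?_
  rw [AddCommGrpCat.mono_iff_injective]
  refine (injective_iff_map_eq_zero _).2 fun z hz => ?_
  exact map_app_eq_zero f M hl S.f z hz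

end GrothLib.PullTensFlat25
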