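import Groth.Agent.Lib.PullLoc25.FlatBase
import Groth.Agent.Lib.PullLoc25.Pairing

/-! # Sections of `f^*G ⊗ M` -/

set_option autoImplicit false
set_option linter.all false
set_option maxHeartbeats 800000
set_option backward.isDefEq.respectTransparency false
set_option backward.isDefEq.respectTransparency.types false
universe u

open CategoryTheory CategoryTheory.Limits Opposite MonoidalCategory GrothLib.SheafCoh TensorProduct

noncomputable section

namespace GrothLib.PullTensFlat25

open PullLoc25 FlatRel25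

variable {C D : Type u} [SmallCategory C] [SmallCategory D] {J : GrothendieckTopology C}
  {K : GrothendieckTopology D} {O_C : Sheaf J CommRingCat.{u}} {O_D : Sheaf K CommRingCat.{u}}
  (f : ModSite.RMor O_C O_D) (M : ModSite.Mod O_C) (G : ModSite.Mod O_D)

/-- `f^*G ⊗ M`. -/
abbrev TT : ModSite.Mod O_C := ((ModSite.tensorBi O_C).obj (f.pull.obj G)).obj M

/-- Generators with coefficients in `M`. -/
abbrev GM (V : C) : Type u := (Σ i : Idx G, V ⟶ f.fn.obj i.1) →₀ ModSite.sect M V

/-- The product of a generator and a section. -/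
def tmGen {V : C} (x : Σ i : Idx G, V ⟶ f.fn.obj i.1) : ModSite.sect M V →+ ModSite.sect (TT f M G) V :=
  AddMonoidHom.mk' (fun m => tm (f.pull.obj G) M (res (f.pull.obj G) x.2 (pullSec f G x.1.2)) m)
    fun m m' => tm_add_right _ _ _

/-- Evaluation. -/
def lamM (V : C) : GM f M G V →+ ModSite.sect (TT f M G) V := Finsupp.liftAddHom fun x => tmGen f M G x

theorem lamM_single {V : C} (x : Σ i : Idx G, V ⟶ f.fn.obj i.1) (m : ModSite.sect M V) :
    lamM f M G V (Finsupp.single x m) = tmGen f M G x m :=
  Finsupp.liftAddHom_apply_single _ _ _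

/-- Restriction of coefficients. -/
def resM {V V' : C} (g : V' ⟶ V) : GM f M G V →+ GM f M G V' :=
  Finsupp.liftAddHom fun x => (Finsupp.singleAddHom ((gens f G).map g.op x)).comp (res M g)

theorem resM_single {V V' : C} (g : V' ⟶ V) (x : Σ i : Idx G, V ⟶ f.fn.obj i.1) (m : ModSite.sect M V) :
    resM f M G g (Finsupp.single x m) = Finsupp.single ⟨x.1, g ≫ x.2⟩ (res M g m) :=
  Finsupp.liftAddHom_apply_single _ _ _

theorem lamM_resM {V V' : C} (g : V' ⟶ V) (y : GM f M G V) :
    lamM f M G V' (resM f M G g y) = res (TT f M G) g (lamM f M G V y) := by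
  suffices h : (lamM f M G V').comp (resM f M G g) = (res (TT f M G) g).comp (lamM f M G V) from
    DFunLike.congr_fun h y
  refine Finsupp.addHom_ext fun x m => ?_
  change lamM f M G V' (resM f M G g (Finsupp.single x m)) = res (TT f M G) g (lamM f M G V (Finsupp.single x m))
  rw [resM_single, lamM_single, lamM_single]
  refine Eq.trans ?_ (res_tm (f.pull.obj G) M g _ m).symm
  exact congrArg (fun z => tm (f.pull.obj G) M z (res M g m)) (res_res (f.pull.obj G) x.2 g _).symm

/-- A combination times a section. -/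
def smulVec {V : C} (m : ModSite.sect M V) :
    ((Σ i : Idx G, V ⟶ f.fn.obj i.1) →₀ O_C.obj.obj (op V)) →+ GM f M G V :=
  Finsupp.mapRange.addMonoidHom (AddMonoidHom.mk' (fun c => c • m) fun c c' => add_smul c c' m)

theorem smulVec_single {V : C} (m : ModSite.sect M V) (x : Σ i : Idx G, V ⟶ f.fn.obj i.1) (c : O_C.obj.obj (op V)) :
    smulVec f M G m (Finsupp.single x c) = Finsupp.single x (c • m) :=
  Finsupp.mapRange_single (hf := zero_smul _ m)

theorem smulVec_apply {V : C} (m : ModSite.sect M V) (v : (Σ i : Idx G, V ⟶ f.fn.obj i.1) →₀ O_C.obj.obj (op V))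
    (e : Σ i : Idx G, V ⟶ f.fn.obj i.1) : smulVec f M G m v e = v e • m := rfl

theorem lamM_smulVec {V : C} (m : ModSite.sect M V) (y : (freeGens f G).obj (op V)) :
    lamM f M G V (smulVec f M G m (show (Σ i : Idx G, V ⟶ f.fn.obj i.1) →₀ O_C.obj.obj (op V) from y)) =
      tm (f.pull.obj G) M ((lam f G).app (op V) y) m := by
  let A : ((Σ i : Idx G, V ⟶ f.fn.obj i.1) →₀ O_C.obj.obj (op V)) →+ ModSite.sect (TT f M G) V :=
    AddMonoidHom.mk' (fun y => tm (f.pull.obj G) M ((lam f G).app (op V) (show (freeGens f G).obj (op V) from y)) m)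
      fun y y' => (congrArg (fun z => tm (f.pull.obj G) M z m) (map_add ((lam f G).app (op V)).hom _ _)).trans
        (tm_add_left _ _ _)
  suffices h : (lamM f M G V).comp (smulVec f M G m) = A from DFunLike.congr_fun h _
  refine Finsupp.addHom_ext fun x c => ?_
  change lamM f M G V (smulVec f M G m (Finsupp.single x c)) = _
  rw [smulVec_single, lamM_single]
  refine Eq.trans ?_ (congrArg (fun z => tm (f.pull.obj G) M z m) ((lam_apply f _).trans
    (Finsupp.sum_single_index (zero_smul (O_C.obj.obj (op V)) _))).symm)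
  exact (tm_smul_right c _ m).trans (tm_smul_left c _ m).symm

theorem exists_lamM {V : C} (z : ModSite.sect (TT f M G) V) :
    ∃ S ∈ J V, ∀ ⦃V' : C⦄ (g : V' ⟶ V), S g → ∃ y : GM f M G V', lamM f M G V' y = res (TT f M G) g z := by
  let P := (forgetP O_C).obj (f.pull.obj G) ⊗ (forgetP O_C).obj M
  have := isLocallySurjective_unit (O := O_C) P
  let R : Sieve V :=
    { arrows := fun V' g => ∃ y : GM f M G V', lamM f M G V' y = res (TT f M G) g z
      downward_closed := fun {V' V'' g} ⟨y, hy⟩ k => ⟨resM f M G k y, by rw [lamM_resM, hy, res_res]⟩ }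
  refine ⟨R, J.transitive (Presheaf.imageSieve_mem J
    ((PresheafOfModules.toPresheaf _).map ((shfAdj O_C).unit.app P)) z) R fun V₁ g hg => ?_, fun _ g hg => hg⟩
  obtain ⟨t, ht⟩ := hg
  -- on tensors
  have key : ∀ t : P.obj (op V₁), ∃ S ∈ J V₁, ∀ ⦃V' : C⦄ (k : V' ⟶ V₁), S k → ∃ y : GM f M G V',
      lamM f M G V' y = res (TT f M G) k (((shfAdj O_C).unit.app P).app (op V₁) t) := by
    intro t
    refine TensorProduct.induction_on (R := O_C.obj.obj (op V₁))
      (motive := fun t => ∃ S ∈ J V₁, ∀ ⦃V' : C⦄ (k : V' ⟶ V₁), S k → ∃ y : GM f M G V',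
        lamM f M G V' y = res (TT f M G) k (((shfAdj O_C).unit.app P).app (op V₁) t))
      t ⟨⊤, J.top_mem _, fun V' k _ => ⟨0, ?_⟩⟩ (fun a b => ?_) fun t t' ⟨S, hS, h⟩ ⟨S', hS', h'⟩ =>
        ⟨S ⊓ S', J.intersection_covering hS hS', fun V' k hk => ?_⟩
    · rw [map_zero]
      exact ((congrArg (res (TT f M G) k) (map_zero (((shfAdj O_C).unit.app P).app (op V₁)).hom)).trans
        (map_zero _)).symm
    · obtain ⟨S, hS, h⟩ := exists_lam f G (show ModSite.sect (f.pull.obj G) V₁ from a)
      refine ⟨S, hS, fun V' k hk => ?_⟩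
      obtain ⟨y, hy⟩ := h k hk
      refine ⟨smulVec f M G (res M k b) y, ?_⟩
      rw [lamM_smulVec, hy, ← res_tm]
      rfl
    · obtain ⟨y, hy⟩ := h k hk.1
      obtain ⟨y', hy'⟩ := h' k hk.2
      refine ⟨y + y', ?_⟩
      rw [map_add, hy, hy', ← map_add]
      exact congrArg (res (TT f M G) k) (map_add (((shfAdj O_C).unit.app P).app (op V₁)).hom t t').symm
  obtain ⟨S, hS, h⟩ := key t
  refine J.superset_covering (fun V' k hk => ?_) hS
  obtain ⟨y, hy⟩ := h k hk
  exact ⟨y, hy.trans ((congrArg (res (TT f M G) k) ht).trans (res_res (TT f M G) g k z))⟩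

/-- The presheaf tensor with generators. -/
abbrev FM : PMod' O_C := freeGens f G ⊗ (forgetP O_C).obj M

/-- Coefficients to tensors. -/
def toTen (V : C) : GM f M G V →+ (FM f M G).obj (op V) :=
  Finsupp.liftAddHom fun x => AddMonoidHom.mk'
    (fun m => (show (freeGens f G).obj (op V) from gen' f G x) ⊗ₜ[O_C.obj.obj (op V)] ps M m)
    fun m m' => TensorProduct.tmul_add _ _ _

theorem toTen_single {V : C} (x : Σ i : Idx G, V ⟶ f.fn.obj i.1) (m : ModSite.sect M V) :
    toTen f M G V (Finsupp.single x m) =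
      (show (freeGens f G).obj (op V) from gen' f G x) ⊗ₜ[O_C.obj.obj (op V)] ps M m :=
  Finsupp.liftAddHom_apply_single _ _ _

theorem toTen_resM {V V' : C} (g : V' ⟶ V) (y : GM f M G V) :
    toTen f M G V' (resM f M G g y) = (FM f M G).presheaf.map g.op (toTen f M G V y) := by
  suffices h : (toTen f M G V').comp (resM f M G g) = ((FM f M G).presheaf.map g.op).hom.comp (toTen f M G V) from
    DFunLike.congr_fun h y
  refine Finsupp.addHom_ext fun x m => ?_
  change toTen f M G V' (resM f M G g (Finsupp.single x m)) = (FM f M G).presheaf.map g.op (toTen f M G V (Finsupp.single x m))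
  rw [resM_single, toTen_single, toTen_single]
  change _ = ((freeGens f G).map g.op (gen' f G x) : (freeGens f G).obj (op V')) ⊗ₜ[O_C.obj.obj (op V')] ps M (res M g m)
  exact congrArg (fun z : (freeGens f G).obj (op V') => z ⊗ₜ[O_C.obj.obj (op V')] ps M (res M g m)) (gen'_map f G g x).symm

theorem unit_lam_toTen {V : C} (y : GM f M G V) :
    ((shfAdj O_C).unit.app ((forgetP O_C).obj (f.pull.obj G) ⊗ (forgetP O_C).obj M)).app (op V)
      ((lam f G ▷ (forgetP O_C).obj M).app (op V) (toTen f M G V y)) = lamM f M G V y := by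
  let A : GM f M G V →+ ModSite.sect (TT f M G) V :=
    AddMonoidHom.comp
      (AddMonoidHom.mk' (fun w => (((shfAdj O_C).unit.app ((forgetP O_C).obj (f.pull.obj G) ⊗ (forgetP O_C).obj M)).app (op V)
        ((lam f G ▷ (forgetP O_C).obj M).app (op V) w))) fun w w' =>
          (congrArg _ (map_add ((lam f G ▷ (forgetP O_C).obj M).app (op V)).hom w w')).trans (map_add _ _ _))
      (toTen f M G V)
  suffices h : A = lamM f M G V from DFunLike.congr_fun h y
  refine Finsupp.addHom_ext fun x m => ?_
  rw [lamM_single]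
  change ((shfAdj O_C).unit.app ((forgetP O_C).obj (f.pull.obj G) ⊗ (forgetP O_C).obj M)).app (op V)
      ((lam f G ▷ (forgetP O_C).obj M).app (op V) (toTen f M G V (Finsupp.single x m))) = _
  rw [toTen_single]
  exact congrArg (fun z => tm (f.pull.obj G) M z m) (lam_gen' f G x)

/-- Tensors to coefficients. -/
def fromTen (V : C) : (FM f M G).obj (op V) →+ GM f M G V :=
  TensorProduct.liftAddHom
    (AddMonoidHom.mk' (fun v => AddMonoidHom.mk' (fun m : ((forgetP O_C).obj M).obj (op V) =>
        smulVec f M G m (show (Σ i : Idx G, V ⟶ f.fn.obj i.1) →₀ O_C.obj.obj (op V) from v))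
      fun m m' => Finsupp.ext fun e => smul_add _ _ _) fun v v' => AddMonoidHom.ext fun m => map_add (smulVec f M G (V := V) m)
        (show (Σ i : Idx G, V ⟶ f.fn.obj i.1) →₀ O_C.obj.obj (op V) from v) v')
    fun (r : O_C.obj.obj (op V)) v m => Finsupp.ext fun e => by
      let m' : ModSite.sect M V := m
      change (r * (show (Σ i : Idx G, V ⟶ f.fn.obj i.1) →₀ O_C.obj.obj (op V) from v) e) • m' =
        (show (Σ i : Idx G, V ⟶ f.fn.obj i.1) →₀ O_C.obj.obj (op V) from v) e • (r • m')
      rw [smul_smul, mul_comm]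

theorem fromTen_tmul {V : C} (v : (freeGens f G).obj (op V)) (m : ModSite.sect M V) :
    fromTen f M G V (v ⊗ₜ[O_C.obj.obj (op V)] ps M m) =
      smulVec f M G m (show (Σ i : Idx G, V ⟶ f.fn.obj i.1) →₀ O_C.obj.obj (op V) from v) :=
  TensorProduct.liftAddHom_tmul _ _ _ _

theorem fromTen_toTen {V : C} (y : GM f M G V) : fromTen f M G V (toTen f M G V y) = y := by
  suffices h : (fromTen f M G V).comp (toTen f M G V) = AddMonoidHom.id _ from DFunLike.congr_fun h y
  refine Finsupp.addHom_ext fun x m => ?_
  change fromTen f M G V (toTen f M G V (Finsupp.single x m)) = Finsupp.single x m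
  rw [toTen_single, fromTen_tmul]
  exact (smulVec_single f M G m x 1).trans (congrArg _ (one_smul _ _))

/-- Relations with coefficients in `M`. -/
def relSum (V : C) : ((Σ R : Rel G, V ⟶ f.fn.obj R.W) →₀ ModSite.sect M V) →+ GM f M G V :=
  Finsupp.liftAddHom fun R => AddMonoidHom.mk'
    (fun n => smulVec f M G n (show (Σ i : Idx G, V ⟶ f.fn.obj i.1) →₀ O_C.obj.obj (op V) from relVec f G (V := V) R))
    fun n n' => Finsupp.ext fun e => smul_add _ _ _

theorem relSum_apply {V : C} (ds : (Σ R : Rel G, V ⟶ f.fn.obj R.W) →₀ ModSite.sect M V) (e : Σ i : Idx G, V ⟶ f.fn.obj i.1) :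
    relSum f M G V ds e = ∑ R ∈ ds.support,
      (show (Σ i : Idx G, V ⟶ f.fn.obj i.1) →₀ O_C.obj.obj (op V) from relVec f G (V := V) R) e • ds R := by
  change (Finsupp.sum ds fun R n => smulVec f M G n _) e = _
  rw [Finsupp.sum, Finsupp.finsetSum_apply]
  rfl

theorem exists_relSum {V : C} (d : (freeRels f G ⊗ (forgetP O_C).obj M : PMod' O_C).obj (op V)) :
    ∃ ds, relSum f M G V ds = fromTen f M G V ((relMap f G ▷ (forgetP O_C).obj M).app (op V) d) := by
  refine TensorProduct.induction_on (R := O_C.obj.obj (op V))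
    (motive := fun d => ∃ ds, relSum f M G V ds = fromTen f M G V ((relMap f G ▷ (forgetP O_C).obj M).app (op V) d))
    d ⟨0, (map_zero _).trans ((congrArg _ (map_zero ((relMap f G ▷ (forgetP O_C).obj M).app (op V)).hom)).trans (map_zero _)).symm⟩
    (fun r n => ?_) fun d d' ⟨a, ha⟩ ⟨b, hb⟩ => ⟨a + b, ?_⟩
  · let rs : (Σ R : Rel G, V ⟶ f.fn.obj R.W) →₀ O_C.obj.obj (op V) := r
    refine ⟨rs.mapRange (fun c => c • (show ModSite.sect M V from n)) (zero_smul _ _), ?_⟩
    change _ = fromTen f M G V (((relMap f G).app (op V) r) ⊗ₜ[O_C.obj.obj (op V)] ps M n)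
    rw [fromTen_tmul]
    refine Finsupp.ext fun e => ?_
    rw [relSum_apply, smulVec_apply]
    have h := congrArg (fun v : (Σ i : Idx G, V ⟶ f.fn.obj i.1) →₀ O_C.obj.obj (op V) => v e) (relMap_apply f (M := G) r)
    refine Eq.trans ?_ (congrArg (· • (show ModSite.sect M V from n)) h).symm
    classical
    change _ = (Finsupp.sum rs fun R c => c • (show (Σ i : Idx G, V ⟶ f.fn.obj i.1) →₀ O_C.obj.obj (op V) from
      relVec f G (V := V) R)) e • _
    rw [Finsupp.sum, Finsupp.finsetSum_apply, Finset.sum_smul]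
    rw [Finset.sum_subset (Finsupp.support_mapRange (f := fun c => c • (show ModSite.sect M V from n)))
      (fun R _ hR => by rw [Finsupp.notMem_support_iff.1 hR, smul_zero])]
    refine Finset.sum_congr rfl fun R _ => ?_
    rw [Finsupp.smul_apply, Finsupp.mapRange_apply, smul_smul, smul_eq_mul, mul_comm]
  · rw [map_add, ha, hb, ← map_add]
    exact congrArg (fromTen f M G V) (map_add ((relMap f G ▷ (forgetP O_C).obj M).app (op V)).hom d d').symm

theorem exists_relM {V : C} (y : GM f M G V) (hy : lamM f M G V y = 0) :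
    ∃ S ∈ J V, ∀ ⦃V' : C⦄ (g : V' ⟶ V), S g → ∃ ds, relSum f M G V' ds = resM f M G g y := by
  let N := (forgetP O_C).obj M
  let P := (forgetP O_C).obj (f.pull.obj G) ⊗ N
  have := isLocallyInjective_unit (O := O_C) P
  let w := toTen f M G V y
  have h1 : ((shfAdj O_C).unit.app P).app (op V) ((lam f G ▷ N).app (op V) w) =
      ((shfAdj O_C).unit.app P).app (op V) 0 :=
    (unit_lam_toTen f M G y).trans (hy.trans (map_zero (((shfAdj O_C).unit.app P).app (op V)).hom).symm)
  have hS₁ := Presheaf.equalizerSieve_mem J ((PresheafOfModules.toPresheaf _).map ((shfAdj O_C).unit.app P))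
    ((lam f G ▷ N).app (op V) w) 0 h1
  -- the comparison is locally bijective
  have := isIso_lamSh f G
  have hb : (PresheafOfModules.toPresheaf _).map (lamBar f G) =
      (PresheafOfModules.toPresheaf _).map ((shfAdj O_C).unit.app (pre f G)) ≫
        (PresheafOfModules.toPresheaf _).map ((forgetP O_C).map (lamSh f G)) := by
    rw [← Functor.map_comp, unit_lamSh]
  have := isLocallyInjective_unit (O := O_C) (pre f G)
  have := isLocallySurjective_unit (O := O_C) (pre f G)
  have : Presheaf.IsLocallyInjective J ((PresheafOfModules.toPresheaf _).map (lamBar f G)) := by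
    rw [hb]; infer_instance
  have : Presheaf.IsLocallySurjective J ((PresheafOfModules.toPresheaf _).map (lamBar f G)) := by
    rw [hb]; infer_instance
  have := isLocallyInjective_whiskerRight (J := J) (R := O_C.obj) (lamBar f G) N
  let R : Sieve V :=
    { arrows := fun V' g => (cokernel.π (relMap f G) ▷ N).app (op V') (toTen f M G V' (resM f M G g y)) = 0
      downward_closed := fun {V' V'' g} hg k => by
        have h := congrArg ((pre f G ⊗ N : PMod' O_C).presheaf.map k.op) hg
        rw [map_zero] at h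
        refine Eq.trans ?_ h
        refine Eq.trans ?_ (PresheafOfModules.naturality_apply (cokernel.π (relMap f G) ▷ N) k.op _)
        refine congrArg ((cokernel.π (relMap f G) ▷ N).app (op V'')) ?_
        refine Eq.trans ?_ (toTen_resM f M G k _)
        refine congrArg (toTen f M G V'') ?_
        have : (resM f M G k).comp (resM f M G g) = resM f M G (k ≫ g) :=
          Finsupp.addHom_ext fun x m => by
            change resM f M G k (resM f M G g (Finsupp.single x m)) = _
            rw [resM_single, resM_single, resM_single, res_res, Category.assoc]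
        exact (DFunLike.congr_fun this y).symm }
  have hR : R ∈ J V := J.transitive hS₁ R fun V₁ g₁ hg₁ => by
    have h2 : (lam f G ▷ N).app (op V₁) (toTen f M G V₁ (resM f M G g₁ y)) = 0 := by
      refine (congrArg ((lam f G ▷ N).app (op V₁)) (toTen_resM f M G g₁ y)).trans ?_
      refine (PresheafOfModules.naturality_apply (lam f G ▷ N) g₁.op w).trans ?_
      exact hg₁.trans (map_zero _)
    have h3 : (lamBar f G ▷ N).app (op V₁) ((cokernel.π (relMap f G) ▷ N).app (op V₁) (toTen f M G V₁ (resM f M G g₁ y))) =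
        (lamBar f G ▷ N).app (op V₁) 0 := by
      rw [map_zero]
      refine Eq.trans ?_ h2
      have e : cokernel.π (relMap f G) ▷ N ≫ lamBar f G ▷ N = lam f G ▷ N := by
        rw [← MonoidalCategory.comp_whiskerRight]
        exact congrArg (· ▷ N) (cokernel.π_desc _ _ _)
      exact congrArg (fun k : freeGens f G ⊗ N ⟶ (forgetP O_C).obj (f.pull.obj G) ⊗ N =>
        k.app (op V₁) (toTen f M G V₁ (resM f M G g₁ y))) e
    refine J.superset_covering ?_ (Presheaf.equalizerSieve_mem J
      ((PresheafOfModules.toPresheaf _).map (lamBar f G ▷ N))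
      (show ((PresheafOfModules.toPresheaf _).obj (pre f G ⊗ N)).obj (op V₁) from
        (cokernel.π (relMap f G) ▷ N).app (op V₁) (toTen f M G V₁ (resM f M G g₁ y))) 0 h3)
    intro V₂ k hk
    change (cokernel.π (relMap f G) ▷ N).app (op V₂) (toTen f M G V₂ (resM f M G (k ≫ g₁) y)) = 0
    have e2 : resM f M G (k ≫ g₁) y = resM f M G k (resM f M G g₁ y) := by
      have : (resM f M G k).comp (resM f M G g₁) = resM f M G (k ≫ g₁) :=
        Finsupp.addHom_ext fun x m => by
          change resM f M G k (resM f M G g₁ (Finsupp.single x m)) = _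
          rw [resM_single, resM_single, resM_single, res_res, Category.assoc]
      exact (DFunLike.congr_fun this y).symm
    rw [e2, toTen_resM]
    exact (PresheafOfModules.naturality_apply (cokernel.π (relMap f G) ▷ N) k.op _).trans (hk.trans (map_zero _))
  refine ⟨R, hR, fun V' g hg => ?_⟩
  -- right exactness
  let S := ShortComplex.mk _ _ (cokernel.condition (relMap f G))
  have hS : S.Exact := ShortComplex.exact_of_g_is_cokernel _ (cokernelIsCokernel _)
  have hex := (ShortComplex.moduleCat_exact_iff _).1 (hS.map_of_epi_of_preservesCokernel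
    (PresheafOfModules.evaluation _ (op V')) (inferInstanceAs (Epi (cokernel.π (relMap f G)))) inferInstance)
  have hepi : Epi ((PresheafOfModules.evaluation _ (op V')).map (cokernel.π (relMap f G))) := Functor.map_epi _ _
  let a : (freeRels f G).obj (op V') →ₗ[O_C.obj.obj (op V')] (freeGens f G).obj (op V') := ((relMap f G).app (op V')).hom
  let b : (freeGens f G).obj (op V') →ₗ[O_C.obj.obj (op V')] (pre f G).obj (op V') :=
    ((cokernel.π (relMap f G)).app (op V')).hom
  have hab : Function.Exact a b := fun v => ⟨fun hv => hex v hv, by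
    rintro ⟨r, rfl⟩
    exact congrArg (fun k => k.app (op V') r) (cokernel.condition (relMap f G))⟩
  have hbs : Function.Surjective b := (ModuleCat.epi_iff_surjective _).1 hepi
  obtain ⟨d, hd⟩ := (rTensor_exact (N.obj (op V')) hab hbs (toTen f M G V' (resM f M G g y))).1 hg
  obtain ⟨ds, hds⟩ := exists_relSum f M G (V := V') d
  exact ⟨ds, hds.trans ((congrArg (fromTen f M G V') hd).trans (fromTen_toTen f M G _))⟩

end GrothLib.PullTensFlat25
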